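import Cfsg.Agent.H894.ThLine.Tab

/-! # S5755, row `Th`, box `Box2`: matrix checks (helper88)

The point representative number 1 of `H894.ThLine` normalises the base line, those with number `≥ 2` do not. -/

set_option autoImplicit false
set_option maxRecDepth 100000
set_option maxHeartbeats 4000000
set_option Elab.async false

namespace Cfsg.Agent.SP.NTh.Two

open Cfsg.Agent.H894.ThLine
open Cfsg.Agent.Th Cfsg.Agent.Th.Words248 Cfsg.Agent.Th.Gen248 Cfsg.Agent.Th.Hom248

/-- the matrix of the involution `h j * a * (h j)⁻¹` -/
noncomputable def PM (j : ℕ) : ℕ := mul (mul (HM j) (pm .a)) (HiM j)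

/-- witnesses -/
def npL : List (ℕ × ℕ) := [(0, 0), (0, 0), (1, 1), (0, 1), (0, 1), (0, 1)]

/-- the check that the point does not normalise the line -/
noncomputable def npc (j : ℕ) : Bool :=
  force (PM j) fun y => chkN y y (EM (npL.getD j (0, 0)).1) (EM (npL.getD j (0, 0)).2)

theorem ckP2 : npc 2 = true := by decide +kernel

theorem ckP3 : npc 3 = true := by decide +kernel

theorem ckP4 : npc 4 = true := by decide +kernel

theorem ckP5 : npc 5 = true := by decide +kernel

theorem ckP6 : npc 6 = true := by decide +kernel

theorem ckP7 : npc 7 = true := by decide +kernel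

theorem ckP8 : npc 8 = true := by decide +kernel

theorem ckP9 : npc 9 = true := by decide +kernel

theorem ckP10 : npc 10 = true := by decide +kernel

theorem ckP11 : npc 11 = true := by decide +kernel

theorem ckP : ∀ j, 2 ≤ j → j < 12 → npc j = true := by
  intro j h1 h2
  interval_cases j
  · exact ckP2
  · exact ckP3
  · exact ckP4
  · exact ckP5
  · exact ckP6
  · exact ckP7
  · exact ckP8
  · exact ckP9
  · exact ckP10
  · exact ckP11

theorem ckP1 : chkD EM (PM 1) [0, 18, 2, 29, 10] = true := by decide +kernel

end Cfsg.Agent.SP.NTh.Two
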