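import Cfsg.Agent.SP.NTh.Two.Abs
import Cfsg.Agent.SP.NTh.Two.Chk
import Cfsg.Agent.H894.ThLine.Rp
import Cfsg.Agent.MonsterX.ThOneClass

/-! # S5755, row `Th`, box `Box2`: the geometry of the Dempwolff lines (helper88)

From the orbit tables of `H894.ThLine`: `geo : Geo E0 DD`. -/

set_option autoImplicit false
set_option maxRecDepth 100000

namespace Cfsg.Agent.SP.NTh.Two

open Cfsg.Agent.H894.ThLine
open Cfsg.Agent.Th Cfsg.Agent.Th.Words248 Cfsg.Agent.Th.Gen248 Cfsg.Agent.Th.Hom248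

/-- the point representatives -/
noncomputable def pP (j : ℕ) : TG := hG j * lg .a * (hG j)⁻¹

theorem rep_P (j : ℕ) (hj : j < 12) : Rep (PM j) (pP j) := ((rep_H j hj).mul (rep_lg .a)).mul (rep_Hi j hj)

theorem pP_sq (j : ℕ) : pP j * pP j = 1 := by
  have e : pP j * pP j = hG j * (lg .a * lg .a) * (hG j)⁻¹ := by unfold pP; group
  rw [e, a_sq]; group

theorem pP_not (j : ℕ) (h1 : 2 ≤ j) (h2 : j < 12) : pP j ∉ DD := by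
  have hb : ∀ j < 12, (npL.getD j (0, 0)).1 < 31 ∧ (npL.getD j (0, 0)).2 < 31 := by decide
  obtain ⟨h3, h4⟩ := hb j h2
  have h5 := ckP j h1 h2
  unfold npc at h5
  rw [force_eq] at h5
  exact not_mem_DD_of (eq_inv_of_mul_eq_one_left (pP_sq j))
    (of_chkN (rep_P j h2) (rep_P j h2) (rep_E _ h3) (rep_E _ h4) h5)

theorem pP_one : pP 1 ∈ DD :=
  mem_DD_of_chkD (rep_P 1 (by norm_num)) (getD_lt (by norm_num) (by decide)) ckP1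

theorem gG_zero : gG 0 = 1 := rfl

theorem hG_zero : hG 0 = 1 := by
  show g0 * sg ^ 0 = 1
  rw [pow_zero, mul_one]; rfl

theorem gG_one : gG 1 = ta := by
  show h0 * ta ^ 1 = ta
  rw [show h0 = 1 from hG_zero, one_mul, pow_one]

theorem hG_one : hG 1 = ta * sg := by
  show g1 * sg ^ 1 = ta * sg
  rw [show g1 = ta from gG_one, pow_one]

theorem pP_zero : pP 0 = lg .a := by
  unfold pP
  rw [hG_zero]; group

theorem a_mem : lg .a ∈ E0 := by rw [← eG_zero]; exact eG_mem 0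

theorem a_ne : lg .a ≠ 1 := by rw [← eG_zero]; exact eG_ne_one 0

/-- the type of a point of a line representative -/
theorem pt_type {i k : ℕ} (hi : i < 11) (hk : k < 31) :
    ∃ δ ∈ DD, gG i * eG k * (gG i)⁻¹ = δ * pP (lamN i k) * δ⁻¹ := by
  obtain ⟨d, hd, c, hc, e⟩ := lp i k hi hk
  refine ⟨d, hd, ?_⟩
  have h1 := mem_CC_iff.1 hc
  have e1 : gG i * eG k * (gG i)⁻¹ = (gG i * sg ^ k) * lg .a * (gG i * sg ^ k)⁻¹ := by unfold eG; group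
  rw [e1, e]
  unfold pP
  conv_rhs => rw [← h1]
  group

theorem exists_lt {e : TG} (he : e ∈ E0) (h1 : e ≠ 1) : ∃ k < 31, e = eG k := by
  rcases he with h | ⟨k, h⟩
  · exact absurd h h1
  · exact ⟨k % 31, Nat.mod_lt _ (by norm_num), by rw [eG_mod]; exact h⟩

theorem pP_one_not : pP 1 ∉ E0 := by
  intro h
  apply ta_pow_not_mem 1 le_rfl (by norm_num)
  rw [pow_one]
  intro e he
  by_cases h1 : e = 1
  · rw [h1, mul_one, mul_inv_cancel]; exact E0.one_mem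
  obtain ⟨k, hk, rfl⟩ := exists_lt he h1
  obtain ⟨δ, hδ, e1⟩ := pt_type (i := 1) (by norm_num) hk
  rw [gG_one] at e1
  rw [e1]
  have h2 : ∀ k < 31, lamN 1 k = 0 ∨ lamN 1 k = 1 := by decide +kernel
  rcases h2 k hk with h3 | h3 <;> rw [h3]
  · rw [pP_zero]; exact hδ _ a_mem
  · exact hδ _ h

theorem type_D {j : ℕ} (hj : j < 12) {δ : TG} (hδ : δ ∈ DD) (h : δ * pP j * δ⁻¹ ∈ DD) : j ≤ 1 := by
  by_contra h1
  apply pP_not j (by omega) hj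
  have h2 := DD.mul_mem (DD.mul_mem (DD.inv_mem hδ) h) hδ
  have e : δ⁻¹ * (δ * pP j * δ⁻¹) * δ = pP j := by group
  rwa [e] at h2

theorem type_E {j : ℕ} (hj : j < 12) {δ : TG} (hδ : δ ∈ DD) (h : δ * pP j * δ⁻¹ ∈ E0) : j = 0 := by
  have h1 := type_D hj hδ (E0_le h)
  by_contra h2
  have h3 : j = 1 := by omega
  subst h3
  apply pP_one_not
  have h4 := DD.inv_mem hδ _ h
  have e : δ⁻¹ * (δ * pP 1 * δ⁻¹) * δ⁻¹⁻¹ = pP 1 := by group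
  rwa [e] at h4

theorem D_of_type {j : ℕ} (hj : j ≤ 1) {δ : TG} (hδ : δ ∈ DD) : δ * pP j * δ⁻¹ ∈ DD := by
  refine DD.mul_mem (DD.mul_mem hδ ?_) (DD.inv_mem hδ)
  interval_cases j
  · rw [pP_zero]; exact E0_le a_mem
  · exact pP_one

theorem line_cover (g : TG) : ∃ i < 11, ∃ d ∈ DD, ∃ d' ∈ DD, g = d * gG i * d' := by
  obtain ⟨i, d, hd, d', hd', e⟩ := cov.cover g
  exact ⟨i, i.2, d, hd, d', hd', e⟩

theorem pt_cover (y : TG) : ∃ j < 12, ∃ δ ∈ DD, ∃ c ∈ CC, y = δ * hG j * c := by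
  obtain ⟨i, hi, d, hd, d', hd', rfl⟩ := line_cover y
  obtain ⟨k, hk⟩ := exD d' hd'
  obtain ⟨d₂, hd₂, c, hc, e⟩ := lp i k hi k.2
  refine ⟨lamN i k, lamN_lt i hi k k.2, d * d₂, DD.mul_mem hd hd₂, _, CC.mul_mem hc hk, ?_⟩
  have e1 : d * gG i * d' = d * (gG i * sg ^ (k : ℕ)) * ((sg ^ (k : ℕ))⁻¹ * d') := by group
  rw [e1, e]; group

/-- the points of a line -/
theorem line_pt {i : ℕ} (hi : i < 11) {d d' p : TG} (hd : d ∈ DD) (hd' : d' ∈ DD) (hp : p ≠ 1)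
    (h : (d * gG i * d')⁻¹ * p * (d * gG i * d') ∈ E0) :
    ∃ k < 31, p = d * (gG i * eG k * (gG i)⁻¹) * d⁻¹ ∧ ∃ δ ∈ DD, p = δ * pP (lamN i k) * δ⁻¹ := by
  obtain ⟨k, hk, e⟩ := exists_lt (hd' _ h) (cj_ne' (cj_ne hp))
  have e1 : p = d * (gG i * eG k * (gG i)⁻¹) * d⁻¹ := by rw [← e]; group
  refine ⟨k, hk, e1, ?_⟩
  obtain ⟨δ, hδ, e2⟩ := pt_type hi hk
  refine ⟨d * δ, DD.mul_mem hd hδ, ?_⟩
  rw [e1, e2]; group

theorem tab0 : ∀ i < 11, ∀ k < 31, lamN i k = 0 → i ≤ 1 := by decide +kernel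

theorem tab1' : ∀ i < 11, ∀ k < 31, ∀ k' < 31, lamN i k ≠ 0 ∨ lamN i k' ≠ 0 ∨ k = k' ∨ i = 0 := by decide +kernel

theorem tab1 : ∀ i < 11, ∀ k < 31, lamN i k = 0 → ∀ k' < 31, lamN i k' = 0 → k = k' ∨ i = 0 := by
  intro i hi k hk h1 k' hk' h2
  have := tab1' i hi k hk k' hk'
  omega

theorem tab2' : ∀ i < 11, ∀ k < 31, ∀ k' < 31, 1 < lamN i k ∨ 1 < lamN i k' ∨ k = k' ∨ i ≤ 1 := by decide +kernel

theorem tab2 : ∀ i < 11, ∀ k < 31, lamN i k ≤ 1 → ∀ k' < 31, lamN i k' ≤ 1 → k = k' ∨ i ≤ 1 := by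
  intro i hi k hk h1 k' hk' h2
  have := tab2' i hi k hk k' hk'
  omega

theorem tab3 : ∀ i ≤ 1, ∀ k < 31, lamN i k ≤ 1 := by decide +kernel

theorem tab4 : ∀ i ≤ 1, lamN i 0 = 0 := by decide +kernel

theorem tab5 : ∀ l < 9, muN 1 l ≤ 1 → l = 0 := by decide +kernel

theorem meet_type {i : ℕ} (hi : i < 11) {d d' x : TG} (hd : d ∈ DD) (hd' : d' ∈ DD) (hx : x ≠ 1) (h1 : x ∈ E0)
    (h : (d * gG i * d')⁻¹ * x * (d * gG i * d') ∈ E0) : i ≤ 1 := by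
  obtain ⟨k, hk, -, δ, hδ, e⟩ := line_pt hi hd hd' hx h
  rw [e] at h1
  exact tab0 i hi k hk (type_E (lamN_lt i hi k hk) hδ h1)

theorem digon (g p q : TG) (hp : p ≠ 1) (hq : q ≠ 1) (hpq : p ≠ q) (h1 : p ∈ E0) (h2 : q ∈ E0)
    (h3 : g⁻¹ * p * g ∈ E0) (h4 : g⁻¹ * q * g ∈ E0) : g ∈ DD := by
  obtain ⟨i, hi, d, hd, d', hd', rfl⟩ := line_cover g
  obtain ⟨k, hk, e1, δ, hδ, e2⟩ := line_pt hi hd hd' hp h3
  obtain ⟨k', hk', e3, δ', hδ', e4⟩ := line_pt hi hd hd' hq h4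
  rw [e2] at h1
  rw [e4] at h2
  rcases tab1 i hi k hk (type_E (lamN_lt i hi k hk) hδ h1) k' hk' (type_E (lamN_lt i hi k' hk') hδ' h2) with h | h
  · exact absurd (by rw [e1, e3, h]) hpq
  · rw [h, gG_zero, mul_one]
    exact DD.mul_mem hd hd'

theorem meet (g x p : TG) (hx : x ≠ 1) (h1 : x ∈ E0) (h2 : g⁻¹ * x * g ∈ E0) (h3 : g⁻¹ * p * g ∈ E0) : p ∈ DD := by
  obtain ⟨i, hi, d, hd, d', hd', rfl⟩ := line_cover g
  have h4 := meet_type hi hd hd' hx h1 h2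
  by_cases hp : p = 1
  · rw [hp]; exact DD.one_mem
  obtain ⟨k, hk, -, δ, hδ, e⟩ := line_pt hi hd hd' hp h3
  rw [e]
  exact D_of_type (tab3 i h4 k hk) hδ

theorem two (g p q : TG) (hp : p ≠ 1) (hq : q ≠ 1) (hpq : p ≠ q) (h1 : p ∈ DD) (h2 : q ∈ DD)
    (h3 : g⁻¹ * p * g ∈ E0) (h4 : g⁻¹ * q * g ∈ E0) : ∃ x, x ≠ 1 ∧ x ∈ E0 ∧ g⁻¹ * x * g ∈ E0 := by
  obtain ⟨i, hi, d, hd, d', hd', rfl⟩ := line_cover g
  obtain ⟨k, hk, e1, δ, hδ, e2⟩ := line_pt hi hd hd' hp h3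
  obtain ⟨k', hk', e3, δ', hδ', e4⟩ := line_pt hi hd hd' hq h4
  rw [e2] at h1
  rw [e4] at h2
  rcases tab2 i hi k hk (type_D (lamN_lt i hi k hk) hδ h1) k' hk' (type_D (lamN_lt i hi k' hk') hδ' h2) with h | h
  · exact absurd (by rw [e1, e3, h]) hpq
  · obtain ⟨ε, hε, e5⟩ := pt_type (k := 0) hi (by norm_num)
    rw [tab4 i h, pP_zero] at e5
    refine ⟨d * (gG i * eG 0 * (gG i)⁻¹) * d⁻¹, cj_ne' (cj_ne' (eG_ne_one 0)), ?_, ?_⟩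
    · rw [e5]
      exact hd _ (hε _ a_mem)
    · have e6 : (d * gG i * d')⁻¹ * (d * (gG i * eG 0 * (gG i)⁻¹) * d⁻¹) * (d * gG i * d') = d'⁻¹ * eG 0 * d'⁻¹⁻¹ := by
        group
      rw [e6]
      exact DD.inv_mem hd' _ (eG_mem 0)

/-- only one line through the point number 1 meets the base line -/
theorem thru {δ g x : TG} (hδ : δ ∈ DD) (h1 : g⁻¹ * (δ * pP 1 * δ⁻¹) * g ∈ E0) (hx : x ≠ 1) (h2 : x ∈ E0)
    (h3 : g⁻¹ * x * g ∈ E0) : (δ * hG 1)⁻¹ * g ∈ DD := by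
  have hne : pP 1 ≠ 1 := cj_ne' a_ne
  obtain ⟨k, hk, e⟩ := exists_lt h1 (cj_ne (cj_ne' hne))
  have h4 : (δ * hG 1)⁻¹ * g * sg ^ k ∈ CC := by
    rw [mem_CC_iff]
    have e1 : (δ * hG 1)⁻¹ * g * sg ^ k * lg .a * ((δ * hG 1)⁻¹ * g * sg ^ k)⁻¹ =
        (δ * hG 1)⁻¹ * g * eG k * ((δ * hG 1)⁻¹ * g)⁻¹ := by unfold eG; group
    rw [e1, ← e]
    unfold pP
    group
  obtain ⟨l, hl⟩ := exC _ h4
  obtain ⟨d, hd, d', hd', e2⟩ := pl 1 l (by norm_num) l.2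
  have h5 : (ta ^ (l : ℕ))⁻¹ * ((δ * hG 1)⁻¹ * g) ∈ DD := by
    have := DD.mul_mem hl (DD.inv_mem (DD.pow_mem sg_mem k))
    have e3 : (ta ^ (l : ℕ))⁻¹ * ((δ * hG 1)⁻¹ * g * sg ^ k) * (sg ^ k)⁻¹ = (ta ^ (l : ℕ))⁻¹ * ((δ * hG 1)⁻¹ * g) := by
      group
    rwa [e3] at this
  have e4 : g = δ * d * gG (muN 1 l) * (d' * ((ta ^ (l : ℕ))⁻¹ * ((δ * hG 1)⁻¹ * g))) := by
    have e5 : δ * d * gG (muN 1 l) * (d' * ((ta ^ (l : ℕ))⁻¹ * ((δ * hG 1)⁻¹ * g))) =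
        δ * (d * gG (muN 1 l) * d') * ((ta ^ (l : ℕ))⁻¹ * ((δ * hG 1)⁻¹ * g)) := by group
    rw [e5, ← e2]; group
  have h6 : muN 1 l ≤ 1 := by
    refine meet_type (muN_lt 1 (by norm_num) l l.2) (DD.mul_mem hδ hd) (DD.mul_mem hd' h5) hx h2 ?_
    rw [← e4]; exact h3
  have h7 := tab5 l l.2 h6
  rwa [h7, pow_zero, inv_one, one_mul] at h5

theorem exists_conj {p : TG} (h1 : p ≠ 1) (h2 : p * p = 1) : ∃ y : TG, p = y * lg .a * y⁻¹ := by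
  have h3 : orderOf p = 2 := orderOf_eq_prime (by rw [pow_two, h2]) h1
  have h4 : orderOf (lg .a) = 2 := orderOf_eq_prime (by rw [pow_two, a_sq]) a_ne
  obtain ⟨y, hy⟩ := isConj_iff.1 (Cfsg.Agent.MonsterX.ThOneClass.oneClass _ _ h4 h3)
  exact ⟨y, hy.symm⟩

theorem exists_type {p : TG} (h1 : p ≠ 1) (h2 : p * p = 1) : ∃ j < 12, ∃ δ ∈ DD, p = δ * pP j * δ⁻¹ := by
  obtain ⟨y, rfl⟩ := exists_conj h1 h2
  obtain ⟨j, hj, δ, hδ, c, hc, rfl⟩ := pt_cover y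
  refine ⟨j, hj, δ, hδ, ?_⟩
  unfold pP
  conv_rhs => rw [← mem_CC_iff.1 hc]
  group

theorem tri (g g' p x x' : TG) (hp : p ∉ E0) (hx : x ≠ 1) (hx' : x' ≠ 1) (h1 : x ∈ E0) (h2 : x' ∈ E0)
    (h3 : g⁻¹ * p * g ∈ E0) (h4 : g⁻¹ * x * g ∈ E0) (h5 : g'⁻¹ * p * g' ∈ E0) (h6 : g'⁻¹ * x' * g' ∈ E0) :
    g⁻¹ * g' ∈ DD := by
  have hp1 : p ≠ 1 := by rintro rfl; exact hp E0.one_mem
  have hp2 : p * p = 1 := by
    have h7 := E0_sq h3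
    have e : p * p = g * (g⁻¹ * p * g * (g⁻¹ * p * g)) * g⁻¹ := by group
    rw [e, h7]; group
  have hpD := meet g x p hx h1 h4 h3
  obtain ⟨j, hj, δ, hδ, rfl⟩ := exists_type hp1 hp2
  have h7 := type_D hj hδ hpD
  have h8 : j = 1 := by
    by_contra h9
    have : j = 0 := by omega
    subst this
    apply hp
    rw [pP_zero]
    exact hδ _ a_mem
  subst h8
  have h9 := DD.mul_mem (DD.inv_mem (thru hδ h3 hx h1 h4)) (thru hδ h5 hx' h2 h6)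
  have e : ((δ * hG 1)⁻¹ * g)⁻¹ * ((δ * hG 1)⁻¹ * g') = g⁻¹ * g' := by group
  rwa [e] at h9

theorem inv (p : TG) (h1 : p * p = 1) (h2 : p ∈ DD) :
    p ∈ E0 ∨ ∃ x g : TG, x ≠ 1 ∧ x ∈ E0 ∧ g⁻¹ * x * g ∈ E0 ∧ g⁻¹ * p * g ∈ E0 := by
  by_cases hp : p = 1
  · left; rw [hp]; exact E0.one_mem
  obtain ⟨j, hj, δ, hδ, rfl⟩ := exists_type hp h1
  have h3 := type_D hj hδ h2
  interval_cases j
  · left
    rw [pP_zero]
    exact hδ _ a_mem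
  · refine Or.inr ⟨δ * lg .a * δ⁻¹, δ * ta, cj_ne' a_ne, hδ _ a_mem, ?_, ?_⟩
    · have h4 := mem_CC_iff.1 (CC.inv_mem ta_mem)
      have e : (δ * ta)⁻¹ * (δ * lg .a * δ⁻¹) * (δ * ta) = ta⁻¹ * lg .a * ta⁻¹⁻¹ := by group
      rw [e, h4]
      exact a_mem
    · have e : (δ * ta)⁻¹ * (δ * pP 1 * δ⁻¹) * (δ * ta) = eG 1 := by
        unfold pP eG
        rw [hG_one]; group
      rw [e]
      exact eG_mem 1

theorem fix (z u : TG) (hz : z ≠ 1) (hz2 : z * z = 1) (hu : u * u = 1) (hc : z * u = u * z) :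
    ∃ g : TG, g⁻¹ * z * g ∈ E0 ∧ g⁻¹ * u * g ∈ DD := by
  obtain ⟨y, rfl⟩ := exists_conj hz hz2
  have h1 : y⁻¹ * u * y ∈ CC := by
    rw [mem_CC]
    calc lg .a * (y⁻¹ * u * y) = y⁻¹ * (y * lg .a * y⁻¹ * u) * y := by group
      _ = y⁻¹ * u * y * lg .a := by rw [hc]; group
  have h2 : ∀ l : Fin 9, ∃ l' : Fin 9, (ta ^ (l' : ℕ))⁻¹ * (y⁻¹ * u * y * ta ^ (l : ℕ)) ∈ DD :=
    fun l => exC _ (CC.mul_mem h1 (CC.pow_mem ta_mem _))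
  choose π hπ using h2
  have h3 : Function.Involutive π := by
    intro l
    apply unC
    have h4 := DD.mul_mem (hπ (π l)) (hπ l)
    have e : (ta ^ (π (π l) : ℕ))⁻¹ * (y⁻¹ * u * y * ta ^ (π l : ℕ)) * ((ta ^ (π l : ℕ))⁻¹ * (y⁻¹ * u * y * ta ^ (l : ℕ))) =
        (ta ^ (π (π l) : ℕ))⁻¹ * (y⁻¹ * (u * u) * y) * ta ^ (l : ℕ) := by group
    rwa [e, hu, mul_one, inv_mul_cancel, mul_one] at h4
  have : Fact (Nat.Prime 2) := ⟨Nat.prime_two⟩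
  obtain ⟨l, hl⟩ := Equiv.Perm.exists_fixed_point_of_prime (p := 2) (n := 1) (α := Fin 9) (by decide)
    (σ := h3.toPerm π) (by
      ext l
      rw [pow_one, pow_two, Equiv.Perm.mul_apply]
      exact congrArg Fin.val (h3 l))
  have hl' : π l = l := hl
  refine ⟨y * ta ^ (l : ℕ), ?_, ?_⟩
  · have h4 := mem_CC_iff.1 (CC.inv_mem (CC.pow_mem ta_mem l))
    have e : (y * ta ^ (l : ℕ))⁻¹ * (y * lg .a * y⁻¹) * (y * ta ^ (l : ℕ)) =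
        (ta ^ (l : ℕ))⁻¹ * lg .a * (ta ^ (l : ℕ))⁻¹⁻¹ := by group
    rw [e, h4]
    exact a_mem
  · have h4 := hπ l
    rw [hl'] at h4
    have e : (y * ta ^ (l : ℕ))⁻¹ * u * (y * ta ^ (l : ℕ)) = (ta ^ (l : ℕ))⁻¹ * (y⁻¹ * u * y * ta ^ (l : ℕ)) := by group
    rwa [e]

/-- **the geometry** -/
theorem geo : Geo E0 DD :=
  ⟨fun _ he => E0_sq he, fun _ hd => hd, digon, meet, two, tri, inv, fix⟩

end Cfsg.Agent.SP.NTh.Two
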