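import Cfsg.Agent.H894.ThLine.Num

/-! # S5755, row `Th`, box `Box2`: two small line stabilisers (helper88)

The collinearity operator is self-adjoint, which gives the lengths of the orbits of `DD` on the lines: the
stabilisers of the lines number 5 and 7 have orders 3 and 5. -/

set_option autoImplicit false
set_option maxRecDepth 100000

namespace Cfsg.Agent.SP.NTh.Two

open Cfsg.Agent.H894.ThLine

universe u

section

variable {G : Type u} [Group G]

/-- the double coset -/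
def dc (D : Subgroup G) (g : G) : Set G := {x | ∃ d ∈ D, ∃ d' ∈ D, x = d * g * d'}

theorem dc_card [Finite G] (D : Subgroup G) (g : G) :
    ∃ s : ℕ, (dc D g).ncard * s = Nat.card D * Nat.card D ∧ ∀ x ∈ D, g⁻¹ * x * g ∈ D → orderOf x ∣ s := by
  refine ⟨Nat.card (MulAction.stabilizer D (QuotientGroup.mk g : G ⧸ D)), ?_, fun x hx hxg => ?_⟩
  · have h1 : dc D g = QuotientGroup.mk ⁻¹' (MulAction.orbit D (QuotientGroup.mk g : G ⧸ D)) := by
      ext x
      constructor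
      · rintro ⟨d, hd, d', hd', rfl⟩
        refine ⟨⟨d, hd⟩, ?_⟩
        show (QuotientGroup.mk (d * g) : G ⧸ D) = QuotientGroup.mk (d * g * d')
        rw [QuotientGroup.eq, inv_mul_cancel_left]
        exact hd'
      · rintro ⟨d, hd⟩
        have h2 : (QuotientGroup.mk ((d : G) * g) : G ⧸ D) = QuotientGroup.mk x := hd
        rw [QuotientGroup.eq] at h2
        exact ⟨d, d.2, _, h2, by group⟩
    have h2 := QuotientGroup.card_preimage_mk D (MulAction.orbit D (QuotientGroup.mk g : G ⧸ D))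
    have h3 := MulAction.index_stabilizer D (QuotientGroup.mk g : G ⧸ D)
    have h4 := Subgroup.card_mul_index (MulAction.stabilizer D (QuotientGroup.mk g : G ⧸ D))
    rw [h1, ← Nat.card_coe_set_eq, h2, Nat.card_coe_set_eq, ← h3, mul_assoc, mul_comm (Subgroup.index _), h4]
  · have h1 : (⟨x, hx⟩ : D) ∈ MulAction.stabilizer D (QuotientGroup.mk g : G ⧸ D) := by
      rw [MulAction.mem_stabilizer_iff]
      show (QuotientGroup.mk (x * g) : G ⧸ D) = QuotientGroup.mk g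
      rw [eq_comm, QuotientGroup.eq, ← mul_assoc]
      exact hxg
    have h2 := orderOf_dvd_natCard (⟨⟨x, hx⟩, h1⟩ : MulAction.stabilizer D (QuotientGroup.mk g : G ⧸ D))
    rwa [Subgroup.orderOf_mk, Subgroup.orderOf_mk] at h2

open Classical in
/-- the indicator function of a double coset -/
noncomputable def chi (D : Subgroup G) (g : G) : G → ℂ := fun x => if x ∈ dc D g then 1 else 0

theorem dc_right {D : Subgroup G} {g x d : G} (hd : d ∈ D) : x * d ∈ dc D g ↔ x ∈ dc D g := by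
  constructor
  · rintro ⟨e, he, e', he', h⟩
    exact ⟨e, he, e' * d⁻¹, D.mul_mem he' (D.inv_mem hd), by rw [← mul_assoc, ← h]; group⟩
  · rintro ⟨e, he, e', he', rfl⟩
    exact ⟨e, he, e' * d, D.mul_mem he' hd, by group⟩

theorem dc_left {D : Subgroup G} {g x d : G} (hd : d ∈ D) : d * x ∈ dc D g ↔ x ∈ dc D g := by
  constructor
  · rintro ⟨e, he, e', he', h⟩
    exact ⟨d⁻¹ * e, D.mul_mem (D.inv_mem hd) he, e', he', by rw [mul_assoc d⁻¹, mul_assoc d⁻¹, ← h]; group⟩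
  · rintro ⟨e, he, e', he', rfl⟩
    exact ⟨d * e, D.mul_mem hd he, e', he', by group⟩

theorem chi_rinv (D : Subgroup G) (g : G) : RInv D (chi D g) := by
  intro x d hd
  unfold chi
  rw [dc_right hd]

theorem chi_linv (D : Subgroup G) (g : G) : LInv D (chi D g) := by
  intro d hd x
  unfold chi
  rw [dc_left hd]

theorem sum_chi [Fintype G] (D : Subgroup G) (g : G) : ∑ x, chi D g x = (dc D g).ncard := by
  classical
  unfold chi
  rw [Finset.sum_boole, ← Set.ncard_coe_finset]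
  congr 2
  ext x
  simp

variable {C D : Subgroup G} {a b n m : ℕ} (Γ : Cov G C D a b n m)

theorem dn_adj [Fintype G] (F : G → ℂ) {h : G → ℂ} (hh : RInv D h) :
    ∑ x, Γ.dn F x * h x = a * ∑ x, F x * h x := by
  have h1 : ∀ x, Γ.dn F x * h x = ∑ k, F (x * Γ.δ k) * h (x * Γ.δ k) := by
    intro x
    unfold Cov.dn
    rw [Finset.sum_mul]
    exact Finset.sum_congr rfl fun k _ => by rw [hh _ _ (Γ.hδ k)]
  rw [Finset.sum_congr rfl fun x _ => h1 x, Finset.sum_comm]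
  have h2 : ∀ k, ∑ x, F (x * Γ.δ k) * h (x * Γ.δ k) = ∑ x, F x * h x := fun k =>
    Equiv.sum_comp (Equiv.mulRight (Γ.δ k)) (fun x => F x * h x)
  rw [Finset.sum_congr rfl fun k _ => h2 k, Finset.sum_const, Finset.card_univ, Fintype.card_fin, nsmul_eq_mul]

theorem up_adj [Fintype G] {F : G → ℂ} (hF : RInv C F) (h : G → ℂ) :
    ∑ x, F x * Γ.up h x = b * ∑ x, F x * h x := by
  have h1 : ∀ x, F x * Γ.up h x = ∑ l, F (x * Γ.γ l) * h (x * Γ.γ l) := by
    intro x
    unfold Cov.up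
    rw [Finset.mul_sum]
    exact Finset.sum_congr rfl fun l _ => by rw [hF _ _ (Γ.hγ l)]
  rw [Finset.sum_congr rfl fun x _ => h1 x, Finset.sum_comm]
  have h2 : ∀ l, ∑ x, F (x * Γ.γ l) * h (x * Γ.γ l) = ∑ x, F x * h x := fun l =>
    Equiv.sum_comp (Equiv.mulRight (Γ.γ l)) (fun x => F x * h x)
  rw [Finset.sum_congr rfl fun l _ => h2 l, Finset.sum_const, Finset.card_univ, Fintype.card_fin, nsmul_eq_mul]

/-- the collinearity operator is self-adjoint -/
theorem T_adj [Fintype G] (hb : b ≠ 0) {f h : G → ℂ} (hf : RInv D f) (hh : RInv D h) :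
    ∑ x, Γ.T f x * h x = ∑ x, Γ.T h x * f x := by
  have hb' : (b : ℂ) ≠ 0 := Nat.cast_ne_zero.2 hb
  have h1 := dn_adj Γ (Γ.up f) hh
  have h2 := dn_adj Γ (Γ.up h) hf
  have h3 := up_adj Γ (Γ.up_rinv hf) h
  have h4 := up_adj Γ (Γ.up_rinv hh) f
  have h5 : ∑ x, Γ.up f x * Γ.up h x = ∑ x, Γ.up h x * Γ.up f x := Finset.sum_congr rfl fun x _ => mul_comm _ _
  unfold Cov.T
  rw [h1, h2]
  congr 1
  apply mul_left_cancel₀ hb'
  rw [← h3, ← h4, h5]

theorem T_chi [Fintype G] (i j : Fin n) (hj : ∀ k, Γ.g k ∈ dc D (Γ.g j) → k = j) :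
    ∑ x, Γ.T (chi D (Γ.g j)) x * chi D (Γ.g i) x = Γ.Mx i j * (dc D (Γ.g i)).ncard := by
  rw [← sum_chi, Finset.mul_sum]
  refine Finset.sum_congr rfl fun x _ => ?_
  by_cases hx : x ∈ dc D (Γ.g i)
  · congr 1
    obtain ⟨d, hd, d', hd', rfl⟩ := hx
    rw [Γ.T_rinv (chi_rinv D _) _ _ hd', Γ.T_linv (chi_linv D _) _ hd, Γ.T_rep (chi_rinv D _) (chi_linv D _),
      Finset.sum_eq_single j]
    · unfold chi
      rw [if_pos ⟨1, D.one_mem, 1, D.one_mem, by group⟩, mul_one]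
    · intro k _ hk
      unfold chi
      rw [if_neg fun h => hk (hj k h), mul_zero]
    · intro h
      exact absurd (Finset.mem_univ j) h
  · have : chi D (Γ.g i) x = 0 := by
      unfold chi
      rw [if_neg hx]
    rw [this, mul_zero, mul_zero]

/-- the balance equations -/
theorem balance [Finite G] (hb : b ≠ 0) (i j : Fin n) (hi : ∀ k, Γ.g k ∈ dc D (Γ.g i) → k = i)
    (hj : ∀ k, Γ.g k ∈ dc D (Γ.g j) → k = j) :
    Γ.Mx i j * (dc D (Γ.g i)).ncard = Γ.Mx j i * (dc D (Γ.g j)).ncard := by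
  have := Fintype.ofFinite G
  have h1 := T_adj Γ hb (chi_rinv D (Γ.g j)) (chi_rinv D (Γ.g i))
  rw [T_chi Γ i j hj, T_chi Γ j i hi] at h1
  exact_mod_cast h1

theorem sep_of (v : ℕ → Fin n → ℤ) (r : ℕ) (hv0 : ∀ i, v 0 i = if i = Γ.z then 1 else 0)
    (hv : ∀ s < r, ∀ i, v (s + 1) i = ∑ j, (Γ.Mx i j : ℤ) * v s j - (0 : ℤ) * v s i) {i k : Fin n}
    (h : Γ.g k ∈ dc D (Γ.g i)) : v r k = v r i := by
  have h1 := Γ.ph_rep (fun _ => 0) v r hv0 hv r le_rfl
  obtain ⟨h2, h3⟩ := Γ.ph_inv (fun _ => 0) r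
  obtain ⟨d, hd, d', hd', e⟩ := h
  have h4 := h1 k
  rw [e, h2 _ _ hd', h3 _ hd, h1 i] at h4
  exact_mod_cast h4.symm

end

/-- the numbers of walks -/
def vL : List (List ℤ) := [
  [1, 0, 0, 0, 0, 0, 0, 0, 0, 0, 0],
  [31, 1, 0, 0, 0, 0, 0, 0, 0, 0, 0],
  [1209, 69, 1, 0, 0, 0, 0, 0, 0, 0, 0],
  [54591, 4071, 107, 1, 3, 0, 0, 0, 0, 0, 0],
  [2701929, 234969, 8633, 145, 477, 12, 21, 20, 0, 0, 0],
  [142032111, 13702671, 640319, 17839, 54903, 4818, 7053, 6630, 2990, 2480, 2480]]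

/-- the numbers of walks -/
def vv (s : ℕ) (i : Fin 11) : ℤ := (vL.getD s []).getD i 0

theorem vv0 : ∀ i : Fin 11, vv 0 i = if i = 0 then 1 else 0 := by decide +kernel

theorem vvs : ∀ s < 5, ∀ i : Fin 11, vv (s + 1) i = ∑ j, (MT i j : ℤ) * vv s j - (0 : ℤ) * vv s i := by
  decide +kernel

theorem vv_inj : ∀ i k : Fin 11, (i : ℕ) ≤ 8 → vv 5 k = vv 5 i → k = i := by decide +kernel

theorem sep (i : Fin 11) (hi : (i : ℕ) ≤ 8) (k : Fin 11) (h : cov.g k ∈ dc DD (cov.g i)) : k = i := by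
  refine vv_inj i k hi (sep_of cov vv 5 vv0 ?_ h)
  intro s hs i
  simp only [Mx_eq]
  exact vvs s hs i

theorem bal (i j : Fin 11) (hi : (i : ℕ) ≤ 8) (hj : (j : ℕ) ≤ 8) :
    MT i j * (dc DD (cov.g i)).ncard = MT j i * (dc DD (cov.g j)).ncard := by
  rw [← Mx_eq, ← Mx_eq]
  exact balance cov (by norm_num) i j (sep i hi) (sep j hj)

theorem dc_zero : (dc DD (cov.g 0)).ncard = 319979520 := by
  have h1 : dc DD (cov.g 0) = (DD : Set TG) := by
    have e : cov.g 0 = 1 := cov.gz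
    rw [e]
    ext x
    constructor
    · rintro ⟨d, hd, d', hd', rfl⟩
      rw [mul_one]
      exact DD.mul_mem hd hd'
    · intro hx
      exact ⟨x, hx, 1, DD.one_mem, by group⟩
  rw [h1, ← Nat.card_coe_set_eq]
  exact card_DD

/-- **two lines with stabilisers of orders 3 and 5** -/
theorem small : ∃ g g' : TG, (∀ x ∈ DD, g⁻¹ * x * g ∈ DD → orderOf x ∣ 3) ∧
    ∀ x ∈ DD, g'⁻¹ * x * g' ∈ DD → orderOf x ∣ 5 := by
  have h0 := dc_zero
  have h1 := bal 0 1 (by decide) (by decide)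
  have h2 := bal 1 2 (by decide) (by decide)
  have h3 := bal 2 3 (by decide) (by decide)
  have h5 := bal 3 5 (by decide) (by decide)
  have h7 := bal 3 7 (by decide) (by decide)
  rw [show MT 0 1 = 248 from rfl, show MT 1 0 = 1 from rfl] at h1
  rw [show MT 1 2 = 240 from rfl, show MT 2 1 = 1 from rfl] at h2
  rw [show MT 2 3 = 112 from rfl, show MT 3 2 = 1 from rfl] at h3
  rw [show MT 3 5 = 144 from rfl, show MT 5 3 = 9 from rfl] at h5
  rw [show MT 3 7 = 48 from rfl, show MT 7 3 = 5 from rfl] at h7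
  obtain ⟨s, hs, hs'⟩ := dc_card DD (cov.g 5)
  obtain ⟨t, ht, ht'⟩ := dc_card DD (cov.g 7)
  have e5 : (dc DD (cov.g 5)).ncard = 106659840 * 319979520 := by omega
  have e7 : (dc DD (cov.g 7)).ncard = 63995904 * 319979520 := by omega
  rw [e5, card_DD] at hs
  rw [e7, card_DD] at ht
  have e3 : s = 3 := by omega
  have e4 : t = 5 := by omega
  rw [e3] at hs'
  rw [e4] at ht'
  exact ⟨_, _, hs', ht'⟩

end Cfsg.Agent.SP.NTh.Two
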