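import Cfsg.Agent.SP.NTh.Iface
import Cfsg.Agent.SP.NTh.Two.Geo
import Cfsg.Agent.SP.NTh.Two.Orb
import Cfsg.Agent.H574.RowTh
import Cfsg.Agent.H964.NoHall.RowTh

/-! # S5755, row `Th`: the box `Box2` (helper88)

A 2-local subgroup of `Th` fixes an involution or normalises a conjugate of the Dempwolff group `2^5`
(`two_local`).  The involution centraliser has a base of size two; the Dempwolff group has two conjugates meeting it in
groups of orders 3 and 5. -/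

set_option autoImplicit false

namespace Cfsg.Agent.SP.NTh.Two

open Subgroup Cfsg.Agent.SP Cfsg.Agent.H894.ThLine

/-- **The 2-local subgroups of `Th`** lie in an involution centraliser or in a conjugate of the Dempwolff group. -/
theorem two_local {A : Subgroup Th} (h : InLoc 2 A) :
    (∃ w : Th, w ≠ 1 ∧ w * w = 1 ∧ ∀ x ∈ A, x * w * x⁻¹ = w) ∨ ∃ g : Th, ∀ x ∈ A, g⁻¹ * x * g ∈ DD := by
  obtain ⟨V, hV, hp, hA⟩ := h
  have : Fact (Nat.Prime 2) := ⟨Nat.prime_two⟩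
  have hnt : Nontrivial V := (Subgroup.nontrivial_iff_ne_bot V).2 hV
  refine geo.loc (S := {v | v ∈ V ∧ v ≠ 1 ∧ v * v = 1 ∧ ∀ y ∈ V, v * y = y * v}) ?_ (fun v hv => hv.2.1)
    (fun v hv => hv.2.2.1) (fun v hv v' hv' => hv.2.2.2 v' hv'.1) ?_
  · have h1 := hp.center_nontrivial
    have h2 : IsPGroup 2 (center V) := hp.to_subgroup _
    obtain ⟨k, hk0, hk⟩ := h2.nontrivial_iff_card.1 h1
    obtain ⟨z, hz⟩ := exists_prime_orderOf_dvd_card' (G := center V) 2 (by rw [hk]; exact dvd_pow_self 2 hk0.ne')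
    have h3 : orderOf (((z : V) : Th)) = 2 := by rw [orderOf_coe, orderOf_coe, hz]
    refine ⟨(z : V), (z : V).2, ?_, ?_, fun y hy => ?_⟩
    · intro e
      rw [e, orderOf_one] at h3
      norm_num at h3
    · rw [← pow_two, ← h3, pow_orderOf_eq_one]
    · exact (congrArg Subtype.val (mem_center_iff.1 z.2 ⟨y, hy⟩)).symm
  · rintro x hx v ⟨h1, h2, h3, h4⟩
    refine ⟨NegS.conj_mem_of_le hA hx h1, cj_ne' h2, ?_, fun y hy => ?_⟩
    · have e : x * v * x⁻¹ * (x * v * x⁻¹) = x * (v * v) * x⁻¹ := by group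
      rw [e, h3]; group
    · have h5 := h4 _ (NegS.conj_mem_of_le hA (A.inv_mem hx) hy)
      calc x * v * x⁻¹ * y = x * (v * (x⁻¹ * y * x⁻¹⁻¹)) * x⁻¹ := by group
        _ = y * (x * v * x⁻¹) := by rw [h5]; group

open Cfsg.Agent.H964.NoHall in
/-- **The involution centraliser has a base of size two.** -/
theorem base_inv {w : Th} (hw : w ≠ 1) (hw2 : w * w = 1) :
    ∃ t : Th, ∀ x : Th, x * w * x⁻¹ = w → t⁻¹ * x * t * w * (t⁻¹ * x * t)⁻¹ = w → x = 1 := by
  obtain ⟨y, rfl⟩ := exists_conj hw hw2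
  have ho := thW_order
  have e0 : thE thW = lg .a * (thE thG)⁻¹ * lg .a * thE thG := rfl
  generalize thE thG = G at e0
  generalize thE thW = W at e0 ho
  refine ⟨y * G⁻¹ * y⁻¹, fun x h1 h2 => ?_⟩
  by_contra hx
  set x' : Th := y⁻¹ * x * y with hx'
  have h3 : x' * lg .a = lg .a * x' := by
    calc x' * lg .a = y⁻¹ * (x * (y * lg .a * y⁻¹) * x⁻¹) * x * y := by rw [hx']; group
      _ = lg .a * x' := by rw [h1, hx']; group
  have h4 : x' * (G⁻¹ * lg .a * G) = G⁻¹ * lg .a * G * x' := by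
    calc x' * (G⁻¹ * lg .a * G) = G⁻¹ * y⁻¹ * ((y * G⁻¹ * y⁻¹)⁻¹ * x * (y * G⁻¹ * y⁻¹) * (y * lg .a * y⁻¹) *
          ((y * G⁻¹ * y⁻¹)⁻¹ * x * (y * G⁻¹ * y⁻¹))⁻¹) * y * G * x' := by rw [hx']; group
      _ = G⁻¹ * lg .a * G * x' := by rw [h2]; group
  have h5 : W * x' = x' * W := by
    rw [e0]
    calc lg .a * G⁻¹ * lg .a * G * x' = lg .a * (G⁻¹ * lg .a * G * x') := by group
      _ = lg .a * x' * (G⁻¹ * lg .a * G) := by rw [← h4]; group
      _ = x' * (lg .a * G⁻¹ * lg .a * G) := by rw [← h3]; group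
  refine H574.RowTh.th_nineteen (x := x') (cj_ne hx) (fun h6 => ?_) ?_
  · have h7 := orderOf_dvd_natCard (⟨x', mem_CC.2 h3.symm⟩ : CC)
    rw [Subgroup.orderOf_mk, cc_facts.1] at h7
    have := h6.trans h7
    norm_num at this
  · have h7 := orderOf_dvd_natCard (⟨W, mem_centralizer_singleton_iff.2 h5⟩ : centralizer ({x'} : Set Th))
    rwa [Subgroup.orderOf_mk, ho] at h7

/-- No pair in a 2-local subgroup. -/
theorem not_inLoc {A B : Subgroup Th} (h : IsPair A B) : ¬ InLoc 2 A := by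
  intro hl
  rcases two_local hl with ⟨w, hw, hw2, hA⟩ | ⟨g, hA⟩
  · obtain ⟨t, ht⟩ := base_inv hw hw2
    exact h.false_of_base le_rfl t fun x hx hxt => ht x (hA x hx) (hA _ hxt)
  · obtain ⟨s, s', hs, hs'⟩ := small
    have hne : B.relIndex A ≠ 1 := fun e => h.2.1.not_ge (relIndex_eq_one.1 e)
    obtain ⟨r, hr, hd⟩ := Nat.exists_prime_and_dvd hne
    have key : ∀ (t : Th) (n : ℕ), (∀ x ∈ DD, t⁻¹ * x * t ∈ DD → orderOf x ∣ n) → r ∣ n := by
      intro t n ht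
      obtain ⟨x, hx, hxt, ho⟩ := h.exists_order hr hd (g * t * g⁻¹)
      have h1 := hA _ hxt
      have e : g⁻¹ * ((g * t * g⁻¹)⁻¹ * x * (g * t * g⁻¹)) * g = t⁻¹ * (g⁻¹ * x * g) * t := by group
      rw [e] at h1
      have h2 := ht _ (hA x hx) h1
      rwa [orderOf_conj', ho] at h2
    have h3 := Nat.dvd_gcd (key s 3 hs) (key s' 5 hs')
    exact hr.one_lt.ne' (Nat.dvd_one.1 h3)

end Cfsg.Agent.SP.NTh.Two

namespace Cfsg.Agent.SP.NTh

/-- **The box `Box2`.** -/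
theorem box2 : Box2 := fun _ _ _ h => Two.not_inLoc h.pair

end Cfsg.Agent.SP.NTh
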