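import Mathlib

/-! # S5755, row `Th`, box `Box2`: an involution geometry without short circuits (helper88)

Points are involutions, lines are the conjugates of `E`, `D = N(E)`.  If there are no digons, triangles and
quadrangles, a group normalising a set of commuting involutions fixes a point or a line (`Geo.loc`). -/

set_option autoImplicit false

namespace Cfsg.Agent.SP.NTh.Two

variable {G : Type*} [Group G]

/-- the properties of the base line -/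
structure Geo (E D : Subgroup G) : Prop where
  sq : ∀ e ∈ E, e * e = 1
  nm : ∀ d ∈ D, ∀ e ∈ E, d * e * d⁻¹ ∈ E
  digon : ∀ g p q : G, p ≠ 1 → q ≠ 1 → p ≠ q → p ∈ E → q ∈ E → g⁻¹ * p * g ∈ E → g⁻¹ * q * g ∈ E → g ∈ D
  meet : ∀ g x p : G, x ≠ 1 → x ∈ E → g⁻¹ * x * g ∈ E → g⁻¹ * p * g ∈ E → p ∈ D
  two : ∀ g p q : G, p ≠ 1 → q ≠ 1 → p ≠ q → p ∈ D → q ∈ D → g⁻¹ * p * g ∈ E → g⁻¹ * q * g ∈ E →
    ∃ x, x ≠ 1 ∧ x ∈ E ∧ g⁻¹ * x * g ∈ E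
  tri : ∀ g g' p x x' : G, p ∉ E → x ≠ 1 → x' ≠ 1 → x ∈ E → x' ∈ E → g⁻¹ * p * g ∈ E → g⁻¹ * x * g ∈ E →
    g'⁻¹ * p * g' ∈ E → g'⁻¹ * x' * g' ∈ E → g⁻¹ * g' ∈ D
  inv : ∀ p : G, p * p = 1 → p ∈ D → p ∈ E ∨ ∃ x g : G, x ≠ 1 ∧ x ∈ E ∧ g⁻¹ * x * g ∈ E ∧ g⁻¹ * p * g ∈ E
  fix : ∀ z u : G, z ≠ 1 → z * z = 1 → u * u = 1 → z * u = u * z → ∃ g : G, g⁻¹ * z * g ∈ E ∧ g⁻¹ * u * g ∈ D

/-- `p` is on the line `g E g⁻¹` -/
def On (E : Subgroup G) (g p : G) : Prop := g⁻¹ * p * g ∈ E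

/-- collinearity -/
def Col (E : Subgroup G) (p q : G) : Prop := ∃ g, On E g p ∧ On E g q

theorem Col.symm {E : Subgroup G} {p q : G} (h : Col E p q) : Col E q p :=
  let ⟨g, h1, h2⟩ := h; ⟨g, h2, h1⟩

theorem On.conj {E : Subgroup G} {g p : G} (h : On E g p) (x : G) : On E (x * g) (x * p * x⁻¹) := by
  unfold On at h ⊢
  have e : (x * g)⁻¹ * (x * p * x⁻¹) * (x * g) = g⁻¹ * p * g := by group
  rwa [e]

theorem Col.conj {E : Subgroup G} {p q : G} (h : Col E p q) (x : G) : Col E (x * p * x⁻¹) (x * q * x⁻¹) :=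
  let ⟨g, h1, h2⟩ := h; ⟨x * g, h1.conj x, h2.conj x⟩

theorem cj_ne {g p : G} (h : p ≠ 1) : g⁻¹ * p * g ≠ 1 := fun e => h (by
  have : p = g * (g⁻¹ * p * g) * g⁻¹ := by group
  rw [this, e]; group)

theorem cj_ne' {g p : G} (h : p ≠ 1) : g * p * g⁻¹ ≠ 1 := fun e => h (by
  have : p = g⁻¹ * (g * p * g⁻¹) * g := by group
  rw [this, e]; group)

theorem cj_inj {g p q : G} (h : p ≠ q) : g⁻¹ * p * g ≠ g⁻¹ * q * g := fun e =>
  h (mul_left_cancel (mul_right_cancel e))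

theorem cj_inj' {g p q : G} (h : p ≠ q) : g * p * g⁻¹ ≠ g * q * g⁻¹ := fun e =>
  h (mul_left_cancel (mul_right_cancel e))

theorem On.rel {E : Subgroup G} {g' p : G} (h : On E g' p) (g : G) :
    (g⁻¹ * g')⁻¹ * (g⁻¹ * p * g) * (g⁻¹ * g') ∈ E := by
  unfold On at h
  have e : (g⁻¹ * g')⁻¹ * (g⁻¹ * p * g) * (g⁻¹ * g') = g'⁻¹ * p * g' := by group
  rwa [e]

theorem on_of_rel {E : Subgroup G} {g g' x : G} (h : (g⁻¹ * g')⁻¹ * x * (g⁻¹ * g') ∈ E) :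
    On E g' (g * x * g⁻¹) := by
  unfold On
  have e : g'⁻¹ * (g * x * g⁻¹) * g' = (g⁻¹ * g')⁻¹ * x * (g⁻¹ * g') := by group
  rwa [e]

theorem on_of_mem {E : Subgroup G} {g x : G} (h : x ∈ E) : On E g (g * x * g⁻¹) := by
  unfold On
  have e : g⁻¹ * (g * x * g⁻¹) * g = x := by group
  rwa [e]

namespace Geo

variable {E D : Subgroup G} (Γ : Geo E D)
include Γ

theorem same_on {g g' p : G} (h : g⁻¹ * g' ∈ D) (hp : On E g p) : On E g' p := by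
  have h1 := Γ.nm _ (D.inv_mem h) _ hp
  unfold On
  have e : g'⁻¹ * p * g' = (g⁻¹ * g')⁻¹ * (g⁻¹ * p * g) * (g⁻¹ * g')⁻¹⁻¹ := by group
  rwa [e]

theorem same_on' {g g' p : G} (h : g⁻¹ * g' ∈ D) (hp : On E g' p) : On E g p :=
  Γ.same_on (by simpa using D.inv_mem h) hp

theorem digon' {g g' p q : G} (hp : p ≠ 1) (hq : q ≠ 1) (hpq : p ≠ q) (h1 : On E g p) (h2 : On E g q)
    (h3 : On E g' p) (h4 : On E g' q) : g⁻¹ * g' ∈ D :=
  Γ.digon _ _ _ (cj_ne hp) (cj_ne hq) (cj_inj hpq) h1 h2 (h3.rel g) (h4.rel g)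

theorem meet' {g x p : G} (hx : x ≠ 1) (h1 : On E g x) (h2 : Col E x p) : g⁻¹ * p * g ∈ D := by
  obtain ⟨g', h3, h4⟩ := h2
  exact Γ.meet _ _ _ (cj_ne hx) h1 (h3.rel g) (h4.rel g)

theorem two' {g g' p q : G} (hp : p ≠ 1) (hq : q ≠ 1) (hpq : p ≠ q) (h1 : g⁻¹ * p * g ∈ D) (h2 : g⁻¹ * q * g ∈ D)
    (h3 : On E g' p) (h4 : On E g' q) : ∃ x, x ≠ 1 ∧ On E g x ∧ On E g' x := by
  obtain ⟨x, hx, h5, h6⟩ := Γ.two _ _ _ (cj_ne hp) (cj_ne hq) (cj_inj hpq) h1 h2 (h3.rel g) (h4.rel g)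
  exact ⟨g * x * g⁻¹, cj_ne' hx, on_of_mem h5, on_of_rel h6⟩

/-- no triangles -/
theorem tri' {g p x x' : G} (hp : ¬ On E g p) (hx : x ≠ 1) (hx' : x' ≠ 1) (h1 : On E g x) (h2 : On E g x')
    (h3 : Col E p x) (h4 : Col E p x') : x = x' := by
  obtain ⟨g₁, h5, h6⟩ := h3
  obtain ⟨g₂, h7, h8⟩ := h4
  have h9 := Γ.tri _ _ _ _ _ hp (cj_ne hx) (cj_ne hx') h1 h2 (h5.rel g) (h6.rel g) (h7.rel g) (h8.rel g)
  have e : (g⁻¹ * g₁)⁻¹ * (g⁻¹ * g₂) = g₁⁻¹ * g₂ := by group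
  rw [e] at h9
  by_contra hne
  exact hp (Γ.same_on' (Γ.digon' hx hx' hne h1 h2 h6 (Γ.same_on' h9 h8)) h5)

theorem inv' {g p : G} (hp : p * p = 1) (h : g⁻¹ * p * g ∈ D) : On E g p ∨ ∃ x, x ≠ 1 ∧ On E g x ∧ Col E x p := by
  have h1 : g⁻¹ * p * g * (g⁻¹ * p * g) = 1 := by
    have : g⁻¹ * p * g * (g⁻¹ * p * g) = g⁻¹ * (p * p) * g := by group
    rw [this, hp]; group
  rcases Γ.inv _ h1 h with h2 | ⟨x, g', hx, h2, h3, h4⟩
  · exact Or.inl h2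
  · refine Or.inr ⟨g * x * g⁻¹, cj_ne' hx, on_of_mem h2, g * g', On.conj (g := g') h3 g, ?_⟩
    have h5 := On.conj (g := g') h4 g
    have e : g * (g⁻¹ * p * g) * g⁻¹ = p := by group
    rwa [e] at h5

/-- no quadrangles -/
theorem quad {z u w w' : G} (hzu : ¬ Col E z u) (hz : z ≠ 1) (hu : u ≠ 1) (hw : w ≠ 1) (hw' : w' ≠ 1)
    (h1 : Col E w z) (h2 : Col E w u) (h3 : Col E w' z) (h4 : Col E w' u) : w = w' := by
  obtain ⟨g, h5, h6⟩ := h1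
  have h7 : ¬ On E g u := fun h => hzu ⟨g, h6, h⟩
  by_cases h8 : On E g w'
  · exact Γ.tri' h7 hw hw' h5 h8 h2.symm h4.symm
  · exfalso
    obtain ⟨g', h9, h10⟩ := h4
    have hne : u ≠ w' := by
      rintro rfl
      exact hzu h3.symm
    obtain ⟨x, hx, h11, h12⟩ := Γ.two' hu hw' hne (Γ.meet' hw h5 h2) (Γ.meet' hz h6 h3.symm) h10 h9
    have e1 : x = w := Γ.tri' h7 hx hw h11 h5 ⟨g', h10, h12⟩ h2.symm
    have e2 : x = z := Γ.tri' h8 hx hz h11 h6 ⟨g', h9, h12⟩ h3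
    rw [← e1, e2] at h2
    exact hzu h2

/-- an involution commuting with a special pair is collinear with its centre -/
theorem perp {z u w v : G} (hzu : ¬ Col E z u) (hz : z ≠ 1) (hu : u ≠ 1) (hw : w ≠ 1) (h1 : Col E w z)
    (h2 : Col E w u) (hv : v ≠ 1) (hv2 : v * v = 1) (hvz : v * z = z * v) (hvu : v * u = u * v) : Col E w v := by
  have ez : v * z * v⁻¹ = z := by rw [hvz]; group
  have eu : v * u * v⁻¹ = u := by rw [hvu]; group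
  have ew : v * w * v⁻¹ = w := by
    have h3 := h1.conj v
    have h4 := h2.conj v
    rw [ez] at h3
    rw [eu] at h4
    exact Γ.quad hzu hz hu (cj_ne' hw) hw h3 h4 h1 h2
  have hwz : w ≠ z := by rintro rfl; exact hzu h2
  have hwu : w ≠ u := by rintro rfl; exact hzu h1.symm
  obtain ⟨g, h3, h4⟩ := h1
  obtain ⟨g', h5, h6⟩ := h2
  have n1 : g⁻¹ * v * g ∈ D := by
    have h7 := h3.conj v
    have h8 := h4.conj v
    rw [ew] at h7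
    rw [ez] at h8
    have := Γ.digon' hw hz hwz h3 h4 h7 h8
    rwa [← mul_assoc] at this
  have n2 : g'⁻¹ * v * g' ∈ D := by
    have h7 := h5.conj v
    have h8 := h6.conj v
    rw [ew] at h7
    rw [eu] at h8
    have := Γ.digon' hw hu hwu h5 h6 h7 h8
    rwa [← mul_assoc] at this
  rcases Γ.inv' hv2 n1 with h7 | ⟨y, hy, h7, h8⟩
  · exact ⟨g, h3, h7⟩
  rcases Γ.inv' hv2 n2 with h9 | ⟨y', hy', h9, h10⟩
  · exact ⟨g', h5, h9⟩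
  by_cases e1 : y = w
  · rwa [e1] at h8
  by_cases e2 : y' = w
  · rwa [e2] at h10
  have h11 : ¬ On E g y' := fun h =>
    hzu ⟨g, h4, Γ.same_on' (Γ.digon' hw hy' (Ne.symm e2) h3 h h5 h9) h6⟩
  have h12 : ¬ Col E y y' := fun h => e1 (Γ.tri' h11 hy hw h7 h3 h.symm ⟨g', h9, h5⟩)
  have e3 : w = v := Γ.quad h12 hy hy' hw hv ⟨g, h3, h7⟩ ⟨g', h5, h9⟩ h8.symm h10.symm
  rw [← e3]
  exact ⟨g, h3, h3⟩

/-- **A group normalising a set of commuting involutions fixes a point or a line.** -/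
theorem loc {A : Subgroup G} {S : Set G} (hne : S.Nonempty) (h1 : ∀ v ∈ S, v ≠ 1) (h2 : ∀ v ∈ S, v * v = 1)
    (hc : ∀ v ∈ S, ∀ v' ∈ S, v * v' = v' * v) (hA : ∀ x ∈ A, ∀ v ∈ S, x * v * x⁻¹ ∈ S) :
    (∃ w : G, w ≠ 1 ∧ w * w = 1 ∧ ∀ x ∈ A, x * w * x⁻¹ = w) ∨ ∃ g : G, ∀ x ∈ A, g⁻¹ * x * g ∈ D := by
  by_cases hcol : ∀ z ∈ S, ∀ u ∈ S, Col E z u
  · obtain ⟨z, hz⟩ := hne
    by_cases hone : ∀ u ∈ S, u = z
    · exact Or.inl ⟨z, h1 z hz, h2 z hz, fun x hx => hone _ (hA x hx z hz)⟩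
    · push Not at hone
      obtain ⟨u, hu, huz⟩ := hone
      obtain ⟨g, h3, h4⟩ := hcol z hz u hu
      have h5 : ∀ v ∈ S, On E g v := by
        intro v hv
        by_contra h6
        exact huz (Γ.tri' h6 (h1 u hu) (h1 z hz) h4 h3 (hcol v hv u hu) (hcol v hv z hz))
      refine Or.inr ⟨g, fun x hx => ?_⟩
      have := Γ.digon' (cj_ne' (g := x) (h1 u hu)) (cj_ne' (g := x) (h1 z hz)) (cj_inj' huz)
        (h5 _ (hA x hx u hu)) (h5 _ (hA x hx z hz)) (h4.conj x) (h3.conj x)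
      rwa [← mul_assoc] at this
  · push Not at hcol
    obtain ⟨z, hz, u, hu, hzu⟩ := hcol
    obtain ⟨g, h3, h4⟩ := Γ.fix z u (h1 z hz) (h2 z hz) (h2 u hu) (hc z hz u hu)
    rcases Γ.inv' (h2 u hu) h4 with h5 | ⟨w, hw, h5, h6⟩
    · exact absurd ⟨g, h3, h5⟩ hzu
    have h7 : Col E w z := ⟨g, h5, h3⟩
    have h8 : ∀ v ∈ S, Col E w v := fun v hv =>
      Γ.perp hzu (h1 z hz) (h1 u hu) hw h7 h6 (h1 v hv) (h2 v hv) (hc v hv z hz) (hc v hv u hu)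
    refine Or.inl ⟨w, hw, ?_, fun x hx => ?_⟩
    · have h9 := Γ.sq _ h5
      have e : w * w = g * (g⁻¹ * w * g * (g⁻¹ * w * g)) * g⁻¹ := by group
      rw [e, h9]; group
    · have h9 : ¬ Col E (x * z * x⁻¹) (x * u * x⁻¹) := fun h => hzu (by
        have h10 := h.conj x⁻¹
        have e1 : x⁻¹ * (x * z * x⁻¹) * x⁻¹⁻¹ = z := by group
        have e2 : x⁻¹ * (x * u * x⁻¹) * x⁻¹⁻¹ = u := by group
        rwa [e1, e2] at h10)
      exact Γ.quad h9 (cj_ne' (h1 z hz)) (cj_ne' (h1 u hu)) (cj_ne' hw) hw (h7.conj x) (h6.conj x)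
        (h8 _ (hA x hx z hz)) (h8 _ (hA x hx u hu))

end Geo

end Cfsg.Agent.SP.NTh.Two
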